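import Cfsg.Agent.Lib.Helper11.P3c0.D0
import Cfsg.Agent.Lib.Helper11.Words

set_option autoImplicit false
set_option maxRecDepth 100000

namespace Cfsg.Agent.Lib.Helper11.P3c0

noncomputable def fc (i : ℕ) : ℕ := fc0_0 i
noncomputable def sc (i : ℕ) : ℕ := sc0_0 i
noncomputable def nc (i : ℕ) : ℕ := nc0_0 i
noncomputable def cc (i : ℕ) : ℕ := cc0_0 i

noncomputable def INV : ℕ := 325702574508064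
def isH (l : ℕ) : Bool := decide (l ∈ [3, 4, 5, 6, 7, 8, 9, 1])
def gens : List ℕ := [1, 2, 3, 4, 5, 6, 7, 8, 9]
def rt : RT := (.node 22 (.node 10 (.node 5 (.node 3 (.node 2 (.node 1 (.leaf 62 1 [8, 6, 8, 6]) (.leaf 15 0 [1, 6, 1, 6])) (.leaf 54 0 [5, 9, 5, 9])) (.node 4 (.leaf 24 0 [2, 6, 2, 6]) (.leaf 33 0 [3, 6, 3, 6]))) (.node 8 (.node 7 (.node 6 (.leaf 42 0 [4, 6, 4, 6]) (.leaf 27 0 [2, 9, 2, 9])) (.leaf 36 0 [3, 9, 3, 9])) (.node 9 (.leaf 18 0 [1, 9, 1, 9]) (.leaf 72 0 [7, 9, 7, 9])))) (.node 16 (.node 13 (.node 12 (.node 11 (.leaf 45 0 [4, 9, 4, 9]) (.leaf 81 0 [8, 9, 8, 9])) (.leaf 25 0 [2, 7, 2, 7])) (.node 15 (.node 14 (.leaf 34 0 [3, 7, 3, 7]) (.leaf 43 0 [4, 7, 4, 7])) (.leaf 52 0 [5, 7, 5, 7]))) (.node 19 (.node 18 (.node 17 (.leaf 16 0 [1,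 7, 1, 7]) (.leaf 61 1 [7, 6, 7, 6, 7, 6])) (.leaf 71 1 [8, 7, 8, 7, 8, 7])) (.node 21 (.node 20 (.leaf 72 1 [9, 7, 9, 7]) (.leaf 23 0 [2, 5, 2, 5])) (.leaf 53 1 [8, 5, 8, 5]))))) (.node 41 (.node 30 (.node 26 (.node 24 (.node 23 (.leaf 54 1 [9, 5, 9, 5]) (.leaf 63 1 [9, 6, 9, 6, 9, 6])) (.node 25 (.leaf 51 1 [6, 5, 6, 5, 6, 5]) (.leaf 32 0 [3, 5, 3, 5]))) (.node 28 (.node 27 (.leaf 14 0 [1, 5, 1, 5]) (.leaf 61 0 [6, 7, 6, 7, 6, 7])) (.node 29 (.leaf 63 0 [6, 9, 6, 9, 6, 9]) (.leaf 52 1 [7, 5, 7, 5])))) (.node 35 (.node 33 (.node 32 (.node 31 (.leaf 45 1 [9, 4, 9, 4]) (.leaf 51 0 [5, 6, 5, 6, 5, 6])) (.leaf 42 1 [6, 4, 6, 4])) (.node 34 (.leaf 36 1 [9, 3, 9, 3]) (.leaf 44 1 [8, 4, 8, 4]))) (.node 38 (.node 37 (.node 36 (.leaf 41 1 [5, 4, 5, 4, 5, 4]) (.leaf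 33 1 [6, 3, 6, 3])) (.leaf 22 0 [2, 4, 2, 4])) (.node 40 (.node 39 (.leaf 43 1 [7, 4, 7, 4]) (.leaf 13 0 [1, 4, 1, 4])) (.leaf 41 0 [4, 5, 4, 5, 4, 5]))))) (.node 56 (.node 49 (.node 45 (.node 43 (.node 42 (.leaf 31 1 [4, 3, 4, 3, 4, 3]) (.leaf 7 0 [7, 7])) (.node 44 (.leaf 32 1 [5, 3, 5, 3]) (.leaf 35 1 [8, 3, 8, 3]))) (.node 47 (.node 46 (.leaf 26 0 [2, 8, 2, 8]) (.leaf 35 0 [3, 8, 3, 8])) (.node 48 (.leaf 44 0 [4, 8, 4, 8]) (.leaf 53 0 [5, 8, 5, 8])))) (.node 53 (.node 51 (.node 50 (.leaf 62 0 [6, 8, 6, 8]) (.leaf 71 0 [7, 8, 7, 8, 7, 8])) (.node 52 (.leaf 17 0 [1, 8, 1, 8]) (.leaf 8 0 [8, 8]))) (.node 55 (.node 54 (.leaf 6 0 [6, 6]) (.leaf 24 1 [6, 2, 6, 2])) (.leaf 27 1 [9, 2, 9, 2])))) (.node 65 (.node 61 (.node 59 (.node 58 (.node 57 (.leaf 34 1 [7,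 3, 7, 3]) (.leaf 21 1 [3, 2, 3, 2, 3, 2])) (.leaf 2 0 [2, 2])) (.node 60 (.leaf 3 0 [3, 3]) (.leaf 4 0 [4, 4]))) (.node 63 (.node 62 (.leaf 5 0 [5, 5]) (.leaf 9 0 [9, 9])) (.node 64 (.leaf 23 1 [5, 2, 5, 2]) (.leaf 26 1 [8, 2, 8, 2])))) (.node 71 (.node 68 (.node 67 (.node 66 (.leaf 12 0 [1, 3, 1, 3]) (.leaf 22 1 [4, 2, 4, 2])) (.leaf 25 1 [7, 2, 7, 2])) (.node 70 (.node 69 (.leaf 31 0 [3, 4, 3, 4, 3, 4]) (.leaf 1 0 [1, 1])) (.leaf 17 1 [8, 1, 8, 1]))) (.node 76 (.node 73 (.node 72 (.leaf 11 1 [2, 1, 2, 1, 2, 1]) (.leaf 21 0 [2, 3, 2, 3, 2, 3])) (.node 75 (.node 74 (.leaf 0 0 []) (.leaf 13 1 [4, 1, 4, 1])) (.leaf 14 1 [5, 1, 5, 1]))) (.node 79 (.node 78 (.node 77 (.leaf 15 1 [6, 1, 6, 1]) (.leaf 16 1 [7, 1, 7, 1])) (.leaf 18 1 [9, 1, 9, 1])) (.node 80 (.leaf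 11 0 [1, 2, 1, 2, 1, 2]) (.leaf 91 5 [5, 4, 3, 9, 8, 7, 6, 5, 4, 3, 9, 8, 7, 6, 5, 4, 3, 9, 8, 7, 6, 5, 4, 3, 9, 8, 7, 6, 5, 4, 3, 9, 8, 7, 6, 5, 4, 3, 9, 8, 7, 6, 5, 4, 3, 9, 8, 7, 6, 5, 4, 3, 9, 8, 7, 6, 5, 4, 3, 1, 9, 8, 7, 6])))))))))


end Cfsg.Agent.Lib.Helper11.P3c0
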